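import Mathlib

/-!
# The trace criterion for etale finite free algebras, in arbitrary universes
The proofs are those of `Groth.Agent.S2733`, split into the two directions.
-/

universe u v

namespace Groth.Agent.TraceEtale.Basic

open scoped TensorProduct

variable (A : Type u) (B : Type v) [CommRing A] [CommRing B] [Algebra A B]
  [Module.Finite A B] [Module.Free A B]

theorem bijective_traceForm [Algebra.FormallyUnramified A B] : Function.Bijective (Algebra.traceForm A B) := by
  classical
  let b := Module.Free.chooseBasis A B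
  have htr : ∀ x, Algebra.trace A B x = ∑ i, b.repr (x * b i) i := fun x ↦ by
    simp [Algebra.trace_eq_matrix_trace b, Matrix.trace, Algebra.leftMulMatrix_eq_repr_mul]
  have hexp : ∀ x, ∑ i, b.repr x i • b i = x := b.sum_repr
  obtain ⟨t, ht, ht1⟩ := Algebra.FormallyUnramified.iff_exists_tensorProduct.mp
    (‹_› : Algebra.FormallyUnramified A B)
  obtain ⟨c, rfl⟩ : ∃ c : _ → B, ∑ i, b i ⊗ₜ[A] c i = t := by
    let d := (TensorProduct.equivFinsuppOfBasisLeft b t)
    refine ⟨d, ?_⟩
    conv_rhs => rw [← (TensorProduct.equivFinsuppOfBasisLeft b).symm_apply_apply t]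
    rw [TensorProduct.equivFinsuppOfBasisLeft_symm_apply, Finsupp.sum_fintype _ _ (by simp)]
  simp only [map_sum, Algebra.TensorProduct.lmul'_apply_tmul] at ht1
  -- apply `φ ⊗ 1` to `(1 ⊗ x) * t = (x ⊗ 1) * t`
  have hx : ∀ (φ : B →ₗ[A] A) (x : B), x * ∑ i, φ (b i) • c i = ∑ i, φ (x * b i) • c i := by
    intro φ x
    have := congr_arg (fun z ↦ TensorProduct.lid A B (φ.rTensor B z)) (ht x)
    simpa [sub_mul, Finset.mul_sum, sub_eq_zero] using this
  have hTc : ∑ i, Algebra.trace A B (b i) • c i = 1 := by
    have h' : ∀ j x, x * c j = ∑ i, b.repr (x * b i) j • c i := fun j x ↦ by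
      simpa [Finsupp.single_apply, ite_smul] using hx (b.coord j) x
    rw [← ht1]
    calc ∑ i, Algebra.trace A B (b i) • c i = ∑ j, ∑ i, b.repr (b j * b i) j • c i := by
          rw [Finset.sum_comm]
          refine Finset.sum_congr rfl fun i _ ↦ ?_
          rw [htr, Finset.sum_smul]
          simp only [mul_comm]
      _ = ∑ j, b j * c j := by simp only [← h']
  let θ : (B →ₗ[A] A) →ₗ[A] B := ∑ i, (LinearMap.applyₗ (b i)).smulRight (c i)
  have hθ : ∀ x, θ (Algebra.traceForm A B x) = x := fun x ↦ by
    simp only [θ, LinearMap.sum_apply, LinearMap.smulRight_apply, LinearMap.applyₗ_apply_apply,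
      Algebra.traceForm_apply, ← hx (Algebra.trace A B) x, hTc, mul_one]
  have hinj : Function.Injective θ := by
    have hs : Function.Surjective (θ ∘ₗ b.toDualEquiv.toLinearMap) :=
      fun y ↦ ⟨b.toDualEquiv.symm (Algebra.traceForm A B y), by simpa using hθ y⟩
    have := OrzechProperty.injective_of_surjective_endomorphism _ hs
    intro y y' e
    have h2 := @this (b.toDualEquiv.symm y) (b.toDualEquiv.symm y') (by simpa using e)
    simpa using h2
  exact ⟨Function.LeftInverse.injective hθ, fun φ ↦ ⟨θ φ, hinj (hθ _)⟩⟩

theorem etale_of_bijective (h : Function.Bijective (Algebra.traceForm A B)) : Algebra.Etale A B := by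
  classical
  let b := Module.Free.chooseBasis A B
  have htr : ∀ x, Algebra.trace A B x = ∑ i, b.repr (x * b i) i := fun x ↦ by
    simp [Algebra.trace_eq_matrix_trace b, Matrix.trace, Algebra.leftMulMatrix_eq_repr_mul]
  have hexp : ∀ x, ∑ i, b.repr x i • b i = x := b.sum_repr
  have : Algebra.FinitePresentation A B := by
    have := Module.finitePresentation_of_projective A B
    exact .of_finitePresentation A B
  have : Algebra.FormallyUnramified A B := by
    rw [Algebra.FormallyUnramified.iff_exists_tensorProduct]
    choose c hc using fun i ↦ h.2 (b.coord i)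
    have hc' : ∀ x i, b.repr x i = Algebra.trace A B (c i * x) := fun x i ↦ by
      simpa using (DFunLike.congr_fun (hc i) x).symm
    have hexp' : ∀ y, ∑ j, Algebra.trace A B (y * b j) • c j = y := by
      intro y
      apply h.1
      refine b.ext fun i ↦ ?_
      simp [← hc', Finsupp.single_apply]
    refine ⟨∑ i, b i ⊗ₜ[A] c i, fun x ↦ ?_, ?_⟩
    · rw [sub_mul, sub_eq_zero, Finset.mul_sum, Finset.mul_sum]
      simp only [Algebra.TensorProduct.tmul_mul_tmul, one_mul]
      calc ∑ i, b i ⊗ₜ[A] (x * c i) = ∑ i, ∑ j, b i ⊗ₜ[A] (Algebra.trace A B (x * c i * b j) • c j) := by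
            simp only [← TensorProduct.tmul_sum, hexp']
        _ = ∑ j, (∑ i, b.repr (x * b j) i • b i) ⊗ₜ[A] c j := by
            rw [Finset.sum_comm]
            simp only [TensorProduct.sum_tmul, TensorProduct.smul_tmul, hc']
            congr! 4
            ring_nf
        _ = _ := by simp only [hexp]
    · simp only [map_sum, Algebra.TensorProduct.lmul'_apply_tmul]
      apply h.1
      refine b.ext fun j ↦ ?_
      simp only [map_sum, LinearMap.sum_apply, Algebra.traceForm_apply, one_mul, htr (b j), hc']
      congr! 2 with i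
      ring_nf
  exact Algebra.Etale.of_formallyUnramified_of_flat


variable {A B}

theorem isUnit_discr_iff {ι : Type*} [Fintype ι] [DecidableEq ι] (b : Module.Basis ι A B) :
    IsUnit (Algebra.discr A b) ↔ Function.Bijective (Algebra.traceForm A B) := by
  have h : LinearMap.toMatrix b b.dualBasis (Algebra.traceForm A B) = Algebra.traceMatrix A b := by
    ext i j
    rw [LinearMap.toMatrix_apply, Module.Basis.dualBasis_repr, Algebra.traceMatrix_apply,
      Algebra.traceForm_apply, Algebra.traceForm_apply, mul_comm]
  rw [Algebra.discr_def, ← h]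
  exact ⟨fun hu => (LinearEquiv.ofIsUnitDet hu).bijective,
    fun hb => LinearEquiv.isUnit_det (LinearEquiv.ofBijective (Algebra.traceForm A B) hb) b b.dualBasis⟩

end Groth.Agent.TraceEtale.Basic
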